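import Cfsg.Agent.Lib.H34.O73Nrm
import Cfsg.Prelude.Def_ChevG2

/-!
# The seven-dimensional module of the Chevalley group `G₂(3)`
-/

set_option autoImplicit false
set_option maxRecDepth 100000
set_option linter.all false

namespace H93.G2

open H34.O73 Matrix Cfsg.Lie
open H35.TCFi22C (Lt)

abbrev Ix : Type := chevG2.Idx

/-- the index set of the submodule -/
def emb : Fin 7 → Fin 2 ⊕ Fin 12 := ![.inl 0, .inr 2, .inr 3, .inr 4, .inr 7, .inr 8, .inr 9]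
def nemb : Fin 7 → Fin 2 ⊕ Fin 12 := ![.inl 1, .inr 0, .inr 1, .inr 5, .inr 6, .inr 10, .inr 11]

/-- the blocks -/
def BT : Fin 12 → Fin 3 → Fin 7 → Fin 7 → F3 := ![![![![1, 0, 0, 0, 0, 0, 0], ![0, 1, 0, 0, 0, 0, 0], ![0, 0, 1, 0, 0, 0, 0], ![0, 0, 0, 1, 0, 0, 0], ![0, 0, 0, 0, 1, 0, 0], ![0, 0, 0, 0, 0, 1, 0], ![0, 0, 0, 0, 0, 0, 1]], ![![1, 0, 0, 0, 0, 0, 0], ![0, 1, 0, 0, 0, 1, 0], ![0, 0, 1, 0, 0, 0, 2], ![0, 0, 0, 1, 0, 0, 0], ![0, 0, 0, 0, 1, 0, 0], ![0, 0, 0, 0, 0, 1, 0], ![0, 0, 0, 0, 0, 0, 1]], ![![1, 0, 0, 0, 0, 0, 0], ![0, 1, 0, 0, 0, 2, 0], ![0, 0, 1, 0, 0, 0, 1], ![0, 0, 0, 1, 0, 0, 0], ![0, 0, 0, 0, 1, 0, 0], ![0, 0, 0, 0, 0, 1, 0], ![0, 0, 0, 0, 0, 0, 1]]],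
  ![![![1, 0, 0, 0, 0, 0, 0], ![0, 1, 0, 0, 0, 0, 0], ![0, 0, 1, 0, 0, 0, 0], ![0, 0, 0, 1, 0, 0, 0], ![0, 0, 0, 0, 1, 0, 0], ![0, 0, 0, 0, 0, 1, 0], ![0, 0, 0, 0, 0, 0, 1]], ![![1, 0, 0, 0, 0, 0, 0], ![0, 1, 0, 0, 1, 0, 0], ![0, 0, 1, 0, 0, 0, 0], ![0, 0, 0, 1, 0, 0, 2], ![0, 0, 0, 0, 1, 0, 0], ![0, 0, 0, 0, 0, 1, 0], ![0, 0, 0, 0, 0, 0, 1]], ![![1, 0, 0, 0, 0, 0, 0], ![0, 1, 0, 0, 2, 0, 0], ![0, 0, 1, 0, 0, 0, 0], ![0, 0, 0, 1, 0, 0, 1], ![0, 0, 0, 0, 1, 0, 0], ![0, 0, 0, 0, 0, 1, 0], ![0, 0, 0, 0, 0, 0, 1]]],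
  ![![![1, 0, 0, 0, 0, 0, 0], ![0, 1, 0, 0, 0, 0, 0], ![0, 0, 1, 0, 0, 0, 0], ![0, 0, 0, 1, 0, 0, 0], ![0, 0, 0, 0, 1, 0, 0], ![0, 0, 0, 0, 0, 1, 0], ![0, 0, 0, 0, 0, 0, 1]], ![![1, 0, 0, 0, 0, 0, 1], ![1, 1, 0, 0, 0, 0, 2], ![0, 0, 1, 0, 1, 0, 0], ![0, 0, 0, 1, 0, 2, 0], ![0, 0, 0, 0, 1, 0, 0], ![0, 0, 0, 0, 0, 1, 0], ![0, 0, 0, 0, 0, 0, 1]], ![![1, 0, 0, 0, 0, 0, 2], ![2, 1, 0, 0, 0, 0, 2], ![0, 0, 1, 0, 2, 0, 0], ![0, 0, 0, 1, 0, 1, 0], ![0, 0, 0, 0, 1, 0, 0], ![0, 0, 0, 0, 0, 1, 0], ![0, 0, 0, 0, 0, 0, 1]]],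
  ![![![1, 0, 0, 0, 0, 0, 0], ![0, 1, 0, 0, 0, 0, 0], ![0, 0, 1, 0, 0, 0, 0], ![0, 0, 0, 1, 0, 0, 0], ![0, 0, 0, 0, 1, 0, 0], ![0, 0, 0, 0, 0, 1, 0], ![0, 0, 0, 0, 0, 0, 1]], ![![1, 0, 0, 0, 0, 2, 0], ![0, 1, 0, 1, 0, 0, 0], ![2, 0, 1, 0, 0, 2, 0], ![0, 0, 0, 1, 0, 0, 0], ![0, 0, 0, 0, 1, 0, 2], ![0, 0, 0, 0, 0, 1, 0], ![0, 0, 0, 0, 0, 0, 1]], ![![1, 0, 0, 0, 0, 1, 0], ![0, 1, 0, 2, 0, 0, 0], ![1, 0, 1, 0, 0, 2, 0], ![0, 0, 0, 1, 0, 0, 0], ![0, 0, 0, 0, 1, 0, 1], ![0, 0, 0, 0, 0, 1, 0], ![0, 0, 0, 0, 0, 0, 1]]],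
  ![![![1, 0, 0, 0, 0, 0, 0], ![0, 1, 0, 0, 0, 0, 0], ![0, 0, 1, 0, 0, 0, 0], ![0, 0, 0, 1, 0, 0, 0], ![0, 0, 0, 0, 1, 0, 0], ![0, 0, 0, 0, 0, 1, 0], ![0, 0, 0, 0, 0, 0, 1]], ![![1, 0, 0, 0, 2, 0, 0], ![0, 1, 2, 0, 0, 0, 0], ![0, 0, 1, 0, 0, 0, 0], ![2, 0, 0, 1, 2, 0, 0], ![0, 0, 0, 0, 1, 0, 0], ![0, 0, 0, 0, 0, 1, 1], ![0, 0, 0, 0, 0, 0, 1]], ![![1, 0, 0, 0, 1, 0, 0], ![0, 1, 1, 0, 0, 0, 0], ![0, 0, 1, 0, 0, 0, 0], ![1, 0, 0, 1, 2, 0, 0], ![0, 0, 0, 0, 1, 0, 0], ![0, 0, 0, 0, 0, 1, 2], ![0, 0, 0, 0, 0, 0, 1]]],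
  ![![![1, 0, 0, 0, 0, 0, 0], ![0, 1, 0, 0, 0, 0, 0], ![0, 0, 1, 0, 0, 0, 0], ![0, 0, 0, 1, 0, 0, 0], ![0, 0, 0, 0, 1, 0, 0], ![0, 0, 0, 0, 0, 1, 0], ![0, 0, 0, 0, 0, 0, 1]], ![![1, 0, 0, 0, 0, 0, 0], ![0, 1, 0, 0, 0, 0, 0], ![0, 0, 1, 2, 0, 0, 0], ![0, 0, 0, 1, 0, 0, 0], ![0, 0, 0, 0, 1, 1, 0], ![0, 0, 0, 0, 0, 1, 0], ![0, 0, 0, 0, 0, 0, 1]], ![![1, 0, 0, 0, 0, 0, 0], ![0, 1, 0, 0, 0, 0, 0], ![0, 0, 1, 1, 0, 0, 0], ![0, 0, 0, 1, 0, 0, 0], ![0, 0, 0, 0, 1, 2, 0], ![0, 0, 0, 0, 0, 1, 0], ![0, 0, 0, 0, 0, 0, 1]]],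
  ![![![1, 0, 0, 0, 0, 0, 0], ![0, 1, 0, 0, 0, 0, 0], ![0, 0, 1, 0, 0, 0, 0], ![0, 0, 0, 1, 0, 0, 0], ![0, 0, 0, 0, 1, 0, 0], ![0, 0, 0, 0, 0, 1, 0], ![0, 0, 0, 0, 0, 0, 1]], ![![1, 0, 0, 0, 0, 0, 0], ![0, 1, 0, 0, 0, 0, 0], ![0, 0, 1, 0, 0, 0, 0], ![0, 0, 2, 1, 0, 0, 0], ![0, 0, 0, 0, 1, 0, 0], ![0, 0, 0, 0, 1, 1, 0], ![0, 0, 0, 0, 0, 0, 1]], ![![1, 0, 0, 0, 0, 0, 0], ![0, 1, 0, 0, 0, 0, 0], ![0, 0, 1, 0, 0, 0, 0], ![0, 0, 1, 1, 0, 0, 0], ![0, 0, 0, 0, 1, 0, 0], ![0, 0, 0, 0, 2, 1, 0], ![0, 0, 0, 0, 0, 0, 1]]],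
  ![![![1, 0, 0, 0, 0, 0, 0], ![0, 1, 0, 0, 0, 0, 0], ![0, 0, 1, 0, 0, 0, 0], ![0, 0, 0, 1, 0, 0, 0], ![0, 0, 0, 0, 1, 0, 0], ![0, 0, 0, 0, 0, 1, 0], ![0, 0, 0, 0, 0, 0, 1]], ![![1, 0, 0, 1, 0, 0, 0], ![0, 1, 0, 0, 0, 0, 0], ![0, 2, 1, 0, 0, 0, 0], ![0, 0, 0, 1, 0, 0, 0], ![1, 0, 0, 2, 1, 0, 0], ![0, 0, 0, 0, 0, 1, 0], ![0, 0, 0, 0, 0, 1, 1]], ![![1, 0, 0, 2, 0, 0, 0], ![0, 1, 0, 0, 0, 0, 0], ![0, 1, 1, 0, 0, 0, 0], ![0, 0, 0, 1, 0, 0, 0], ![2, 0, 0, 2, 1, 0, 0], ![0, 0, 0, 0, 0, 1, 0], ![0, 0, 0, 0, 0, 2, 1]]],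
  ![![![1, 0, 0, 0, 0, 0, 0], ![0, 1, 0, 0, 0, 0, 0], ![0, 0, 1, 0, 0, 0, 0], ![0, 0, 0, 1, 0, 0, 0], ![0, 0, 0, 0, 1, 0, 0], ![0, 0, 0, 0, 0, 1, 0], ![0, 0, 0, 0, 0, 0, 1]], ![![1, 0, 1, 0, 0, 0, 0], ![0, 1, 0, 0, 0, 0, 0], ![0, 0, 1, 0, 0, 0, 0], ![0, 1, 0, 1, 0, 0, 0], ![0, 0, 0, 0, 1, 0, 0], ![1, 0, 2, 0, 0, 1, 0], ![0, 0, 0, 0, 2, 0, 1]], ![![1, 0, 2, 0, 0, 0, 0], ![0, 1, 0, 0, 0, 0, 0], ![0, 0, 1, 0, 0, 0, 0], ![0, 2, 0, 1, 0, 0, 0], ![0, 0, 0, 0, 1, 0, 0], ![2, 0, 2, 0, 0, 1, 0], ![0, 0, 0, 0, 1, 0, 1]]],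
  ![![![1, 0, 0, 0, 0, 0, 0], ![0, 1, 0, 0, 0, 0, 0], ![0, 0, 1, 0, 0, 0, 0], ![0, 0, 0, 1, 0, 0, 0], ![0, 0, 0, 0, 1, 0, 0], ![0, 0, 0, 0, 0, 1, 0], ![0, 0, 0, 0, 0, 0, 1]], ![![1, 2, 0, 0, 0, 0, 0], ![0, 1, 0, 0, 0, 0, 0], ![0, 0, 1, 0, 0, 0, 0], ![0, 0, 0, 1, 0, 0, 0], ![0, 0, 1, 0, 1, 0, 0], ![0, 0, 0, 2, 0, 1, 0], ![2, 2, 0, 0, 0, 0, 1]], ![![1, 1, 0, 0, 0, 0, 0], ![0, 1, 0, 0, 0, 0, 0], ![0, 0, 1, 0, 0, 0, 0], ![0, 0, 0, 1, 0, 0, 0], ![0, 0, 2, 0, 1, 0, 0], ![0, 0, 0, 1, 0, 1, 0], ![1, 2, 0, 0, 0, 0, 1]]],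
  ![![![1, 0, 0, 0, 0, 0, 0], ![0, 1, 0, 0, 0, 0, 0], ![0, 0, 1, 0, 0, 0, 0], ![0, 0, 0, 1, 0, 0, 0], ![0, 0, 0, 0, 1, 0, 0], ![0, 0, 0, 0, 0, 1, 0], ![0, 0, 0, 0, 0, 0, 1]], ![![1, 0, 0, 0, 0, 0, 0], ![0, 1, 0, 0, 0, 0, 0], ![0, 0, 1, 0, 0, 0, 0], ![0, 0, 0, 1, 0, 0, 0], ![0, 1, 0, 0, 1, 0, 0], ![0, 0, 0, 0, 0, 1, 0], ![0, 0, 0, 2, 0, 0, 1]], ![![1, 0, 0, 0, 0, 0, 0], ![0, 1, 0, 0, 0, 0, 0], ![0, 0, 1, 0, 0, 0, 0], ![0, 0, 0, 1, 0, 0, 0], ![0, 2, 0, 0, 1, 0, 0], ![0, 0, 0, 0, 0, 1, 0], ![0, 0, 0, 1, 0, 0, 1]]],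
  ![![![1, 0, 0, 0, 0, 0, 0], ![0, 1, 0, 0, 0, 0, 0], ![0, 0, 1, 0, 0, 0, 0], ![0, 0, 0, 1, 0, 0, 0], ![0, 0, 0, 0, 1, 0, 0], ![0, 0, 0, 0, 0, 1, 0], ![0, 0, 0, 0, 0, 0, 1]], ![![1, 0, 0, 0, 0, 0, 0], ![0, 1, 0, 0, 0, 0, 0], ![0, 0, 1, 0, 0, 0, 0], ![0, 0, 0, 1, 0, 0, 0], ![0, 0, 0, 0, 1, 0, 0], ![0, 1, 0, 0, 0, 1, 0], ![0, 0, 2, 0, 0, 0, 1]], ![![1, 0, 0, 0, 0, 0, 0], ![0, 1, 0, 0, 0, 0, 0], ![0, 0, 1, 0, 0, 0, 0], ![0, 0, 0, 1, 0, 0, 0], ![0, 0, 0, 0, 1, 0, 0], ![0, 2, 0, 0, 0, 1, 0], ![0, 0, 1, 0, 0, 0, 1]]]]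

def M0T : Fin 7 → Fin 7 → F3 := ![![0, 2, 0, 0, 2, 2, 2], ![0, 2, 1, 0, 0, 0, 0], ![0, 2, 1, 0, 1, 0, 0], ![1, 2, 0, 0, 1, 1, 1], ![0, 1, 0, 2, 0, 1, 0], ![0, 2, 0, 1, 0, 0, 0], ![1, 1, 0, 0, 2, 2, 2]]
def M0iT : Fin 7 → Fin 7 → F3 := ![![0, 0, 0, 2, 0, 0, 2], ![1, 0, 0, 2, 0, 0, 1], ![1, 1, 0, 2, 0, 0, 1], ![1, 0, 0, 2, 0, 1, 1], ![0, 2, 1, 0, 0, 0, 0], ![0, 0, 0, 0, 1, 1, 0], ![1, 1, 2, 1, 2, 2, 2]]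

def M0 : Matrix ix (Fin 7) F3 := Matrix.of fun i j => M0T (eix i) j
def M0i : Matrix (Fin 7) ix F3 := Matrix.of fun i j => M0iT i (eix j)

theorem M0_mul : M0 * M0i = 1 := by decide +kernel
theorem M0i_mul : M0i * M0 = 1 := by decide +kernel

/-- words for the root elements -/
def wd : Fin 12 → List Lt := ![[.c, .d, .h, .f, .g, .e, .f, .d, .e, .b, .c, .d, .h, .f, .e, .b, .c, .d, .b, .c, .b, .i, .h, .g, .f, .d, .e, .c, .d, .h, .i, .c, .d, .h, .f, .g, .e, .f, .d, .e, .b, .c, .d, .h, .e, .d, .b, .c],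
  [.i, .e, .c, .d, .h, .f, .e, .c, .d, .c, .b, .g, .f, .e, .c, .d, .h, .i, .h, .d, .e, .c, .d, .h, .b, .c, .d, .e, .f, .g, .c, .d, .e, .f, .d, .e, .b, .c],
  [.h, .g, .f, .d, .e, .d, .c, .b, .h, .g, .f, .d, .e, .c, .d, .h, .i, .h, .g, .f, .d, .e, .c, .d, .h, .c, .d, .e, .f, .g, .e, .b, .c, .d, .b],
  [.c, .d, .h, .i, .h, .g, .e, .c, .d, .b, .c, .b, .h, .i, .f, .e, .d, .h, .e, .f, .g, .d, .e, .f, .c, .d, .e, .b, .c, .d, .h, .i, .d, .h, .d, .e, .d, .b, .c],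
  [.e, .d, .h, .i, .g, .f, .d, .e, .b, .c, .d, .h, .g, .b, .c, .d, .e, .b, .c, .d, .b, .c, .b, .h, .i, .d, .h, .f, .g, .e, .f, .d, .e, .c, .d, .h, .i, .d, .e, .b, .c, .d, .h, .e, .f, .e, .b, .c, .d, .c],
  [.h, .d, .e, .c, .d, .h, .i, .d, .e, .f, .g, .c, .d, .e, .f, .d, .e, .b, .c, .d, .b, .c, .b, .h, .d, .e, .c, .d, .h, .i, .h, .f, .g, .e, .f, .c, .d, .e, .b, .c, .d, .h, .f, .g, .e, .f, .d, .e, .c, .d],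
  [.e, .d, .h, .i, .h, .e, .f, .g, .d, .e, .c, .d, .b, .c, .b, .h, .i, .f, .e, .d, .h, .e, .f, .c, .d, .e, .b, .c, .d, .h, .i, .d, .h, .d, .e, .f, .g, .e, .f, .e, .d, .b],
  [.b, .c, .d, .h, .g, .c, .d, .e, .b, .c, .d, .b, .c, .b, .f, .e, .d, .h, .i, .d, .h, .g, .e, .f, .c, .d, .e, .b, .c, .d, .h, .g, .f, .b, .c, .d, .e, .c, .d, .c, .b],
  [.i, .h, .d, .e, .b, .c, .d, .h, .i, .e, .f, .d, .e, .b, .c, .d, .h, .g, .f, .e, .d, .b, .c, .b, .i, .e, .d, .h, .f, .g, .e, .f, .d, .e, .c, .d, .h, .i, .h, .f, .d, .e, .c, .d, .h, .e, .f, .g, .d, .c, .b],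
  [.f, .e, .d, .h, .e, .f, .c, .d, .e, .b, .c, .d, .h, .i, .h, .f, .g, .d, .e, .c, .d, .c, .b, .f, .e, .d, .h, .i, .d, .e, .c, .d, .h, .f, .g, .e, .f, .d, .e, .b, .c, .d, .h, .i, .g, .e, .f, .b, .c, .b],
  [.h, .f, .d, .e, .b, .c, .d, .h, .i, .h, .d, .e, .c, .d, .h, .f, .d, .e, .c, .d, .b, .c, .b, .d, .h, .g, .e, .f, .d, .e, .c, .d, .h, .i, .h, .d, .e, .c, .d, .h, .b, .c, .d, .e, .f, .g, .f, .e, .d, .c],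
  [.h, .c, .d, .e, .b, .c, .d, .h, .i, .f, .g, .e, .f, .b, .c, .d, .b, .c, .b, .h, .d, .e, .c, .d, .h, .i, .c, .d, .h, .f, .g, .e, .f, .d, .e, .b, .c, .d, .h, .e, .f, .g, .e, .f, .b, .c]]

abbrev xM (r : Fin 12) (t : F3) : Matrix (Fin 2 ⊕ Fin 12) (Fin 2 ⊕ Fin 12) F3 := chevG2.xMat F3 r t

theorem hPres : ∀ (r : Fin 12) (t : F3) (i j : Fin 7), xM r t (nemb i) (emb j) = 0 := by decide +kernel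

theorem hBlk : ∀ (r : Fin 12) (t : Fin 3) (i j : Fin 7), xM r (t : F3) (emb i) (emb j) = BT r t i j := by decide +kernel

/-- the action of the words -/
theorem hW : ∀ (r : Fin 12) (t : Fin 3) (k : Fin 7),
    M0 *ᵥ ((Matrix.of (BT r t)) *ᵥ (M0i *ᵥ gb k)) = vec ((List.replicate t.val (wd r)).flatten.foldr PP (B7 k)) := by decide +kernel

/-! ### the homomorphism -/

theorem sum_split (f : Fin 2 ⊕ Fin 12 → F3) : ∑ k, f k = ∑ j, f (emb j) + ∑ j, f (nemb j) := by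
  rw [Fintype.sum_sum_type]
  simp only [Fin.sum_univ_succ, Fin.sum_univ_zero]
  simp only [emb, nemb]
  simp
  ring

/-- matrices preserving the submodule -/
def Pres (M : Matrix (Fin 2 ⊕ Fin 12) (Fin 2 ⊕ Fin 12) F3) : Prop := ∀ i j : Fin 7, M (nemb i) (emb j) = 0

def blk (M : Matrix (Fin 2 ⊕ Fin 12) (Fin 2 ⊕ Fin 12) F3) : Matrix (Fin 7) (Fin 7) F3 := Matrix.of fun i j => M (emb i) (emb j)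

theorem pres_mul {M N : Matrix (Fin 2 ⊕ Fin 12) (Fin 2 ⊕ Fin 12) F3} (hM : Pres M) (hN : Pres N) : Pres (M * N) := by
  intro i j
  rw [Matrix.mul_apply, sum_split]
  rw [Finset.sum_eq_zero (fun k _ => by rw [hM, zero_mul]), Finset.sum_eq_zero (fun k _ => by rw [hN, mul_zero]), add_zero]

theorem blk_mul {M N : Matrix (Fin 2 ⊕ Fin 12) (Fin 2 ⊕ Fin 12) F3} (hN : Pres N) : blk (M * N) = blk M * blk N := by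
  ext i j
  change (M * N) (emb i) (emb j) = (blk M * blk N) i j
  rw [Matrix.mul_apply, sum_split, Matrix.mul_apply]
  rw [Finset.sum_eq_zero (s := Finset.univ) (f := fun k => M (emb i) (nemb k) * N (nemb k) (emb j)) (fun k _ => by rw [hN, mul_zero]), add_zero]
  rfl

theorem pres_one : Pres 1 := by
  have h : ∀ i j : Fin 7, (1 : Matrix (Fin 2 ⊕ Fin 12) (Fin 2 ⊕ Fin 12) F3) (nemb i) (emb j) = 0 := by decide +kernel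
  exact h

theorem blk_one : blk 1 = 1 := by
  have hi : ∀ a b : Fin 7, emb a = emb b → a = b := by decide +kernel
  exact Matrix.submatrix_one emb (fun a b h => hi a b h)

/-- the group -/
abbrev K : Subgroup (GL (Fin 2 ⊕ Fin 12) F3) := chevG2.group F3

theorem pres_K (g : K) : Pres ((g : GL (Fin 2 ⊕ Fin 12) F3) : Matrix (Fin 2 ⊕ Fin 12) (Fin 2 ⊕ Fin 12) F3) := by
  have hpow : ∀ (x : GL (Fin 2 ⊕ Fin 12) F3), Pres (x : Matrix (Fin 2 ⊕ Fin 12) (Fin 2 ⊕ Fin 12) F3) → ∀ n : ℕ, Pres ((x ^ n : GL (Fin 2 ⊕ Fin 12) F3) : Matrix (Fin 2 ⊕ Fin 12) (Fin 2 ⊕ Fin 12) F3) := by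
    intro x hx n
    induction n with
    | zero => rw [pow_zero]; exact pres_one
    | succ n ih => rw [pow_succ]; exact pres_mul ih hx
  have hinv : ∀ (x : GL (Fin 2 ⊕ Fin 12) F3), Pres (x : Matrix (Fin 2 ⊕ Fin 12) (Fin 2 ⊕ Fin 12) F3) → Pres ((x⁻¹ : GL (Fin 2 ⊕ Fin 12) F3) : Matrix (Fin 2 ⊕ Fin 12) (Fin 2 ⊕ Fin 12) F3) := by
    intro x hx
    have hpos : 0 < orderOf x := orderOf_pos x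
    have e : x⁻¹ = x ^ (orderOf x - 1) := by
      rw [inv_eq_iff_mul_eq_one, ← pow_succ', Nat.sub_add_cancel hpos, pow_orderOf_eq_one]
    rw [e]; exact hpow x hx _
  have h : ∀ x ∈ K, Pres (x : Matrix (Fin 2 ⊕ Fin 12) (Fin 2 ⊕ Fin 12) F3) := by
    intro x hx
    induction hx using Subgroup.closure_induction with
    | mem y hy =>
      obtain ⟨r, t, e⟩ := hy
      rw [e]; exact hPres r t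
    | one => exact pres_one
    | mul a b _ _ ha hb => exact pres_mul ha hb
    | inv a _ ha => exact hinv a ha
  exact h g g.2

theorem sandwich (A B : Matrix (Fin 7) (Fin 7) F3) : M0 * (A * B) * M0i = M0 * A * M0i * (M0 * B * M0i) := by
  have h : M0 * A * M0i * (M0 * B * M0i) = M0 * A * (M0i * M0) * (B * M0i) := by simp only [Matrix.mul_assoc]
  rw [h, M0i_mul, Matrix.mul_one]
  simp only [Matrix.mul_assoc]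

/-- the representation on the seven-dimensional space -/
def κ0 : K →* Matrix ix ix F3 where
  toFun g := M0 * blk ((g : GL (Fin 2 ⊕ Fin 12) F3) : Matrix (Fin 2 ⊕ Fin 12) (Fin 2 ⊕ Fin 12) F3) * M0i
  map_one' := by
    have h : ((1 : K) : GL (Fin 2 ⊕ Fin 12) F3) = 1 := rfl
    rw [h, Units.val_one, blk_one, Matrix.mul_one, M0_mul]
  map_mul' g h := by
    have e : ((g * h : K) : GL (Fin 2 ⊕ Fin 12) F3) = (g : GL (Fin 2 ⊕ Fin 12) F3) * (h : GL (Fin 2 ⊕ Fin 12) F3) := rfl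
    rw [e, Units.val_mul, blk_mul (pres_K h)]
    exact sandwich _ _

def κ : K →* GL ix F3 := κ0.toHomUnits

/-- a root element -/
theorem κ_root {g : K} {r : Fin 12} {t : Fin 3}
    (hg : ((g : GL (Fin 2 ⊕ Fin 12) F3) : Matrix (Fin 2 ⊕ Fin 12) (Fin 2 ⊕ Fin 12) F3) = xM r t) :
    κ g = ((((List.replicate t.val (wd r)).flatten.map TT).prod : I) : GL ix F3) := by
  apply Units.ext
  change M0 * blk _ * M0i = ((((List.replicate t.val (wd r)).flatten.map TT).prod : I) : GL ix F3).1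
  have hb : blk (xM r t) = Matrix.of (BT r t) := Matrix.ext (fun i j => hBlk r t i j)
  rw [hg, hb]
  apply Matrix.ext_of_mulVec_single
  intro i
  have key : ∀ k : Fin 7, (M0 * Matrix.of (BT r t) * M0i) *ᵥ (gb k) =
      act ((List.replicate t.val (wd r)).flatten.map TT).prod (gb k) := by
    intro k
    have hk : B7 k < 702 := by fin_cases k <;> decide
    have h1 := act_word (List.replicate t.val (wd r)).flatten hk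
    rw [← gb_eq] at h1
    rw [h1, ← hW, Matrix.mul_assoc, ← Matrix.mulVec_mulVec, ← Matrix.mulVec_mulVec]
  have h2 : (M0 * Matrix.of (BT r t) * M0i) *ᵥ (Pi.single i 1) = act ((List.replicate t.val (wd r)).flatten.map TT).prod (Pi.single i 1) := by
    rw [single_eq, act_sum, Matrix.mulVec_sum]
    refine Finset.sum_congr rfl ?_
    intro k _
    rw [Matrix.mulVec_smul, act_smul, key]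
  exact h2

end H93.G2
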